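import Mathlib
import Cfsg.Agent.H613.RegGram
import Cfsg.Agent.Blocks.CentralizerSum
set_option linter.all false

/-!
# Contributions of subsections

`u` is a `p`-element of `G`, `H = C_G(u)`, `b` a block of `H` inducing the block `B` of `G`.

* `wt p u χ η = |H|⁻¹ ∑_{y ∈ H p-regular} χ (u y) * conj (η y)`;
* `contr p u b χ ψ = ∑_{η ∈ b} wt p u χ η * conj (wt p u ψ η)`, the contribution `m^{(u,b)}_{χψ}`;
* `sum_wt_mul_conj_wt`: column orthogonality;
* `sum_contr_mul_contr`: idempotency; `sum_contr_self`: the trace is `blockRank p b`;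
* `contr_eq_sum`: the contribution in terms of multiplicities and central scalars;
* `memLocalIdeal_contr_sub`, `not_memLocalIdeal_contr`: values modulo `M`.
-/

set_option autoImplicit false
set_option linter.unusedSectionVars false

open Cfsg
open scoped ComplexConjugate

namespace Cfsg.Agent.H613.Contrib

open Cfsg.Agent.Blocks.Blau Cfsg.Agent.Blocks.Local Cfsg.Agent.Characters
open Cfsg.Agent.H613.RegGram
open Cfsg.Agent.Blocks.Basic (isPBlock_blockOf mem_blockOf_self isPBlock_eq_blockOf)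

section defs

variable {G : Type*} [Group G]

theorem pair_eq_sum_filter [Fintype G] (p : ℕ) [DecidablePred fun x : G => ¬ p ∣ orderOf x]
    (f g : G → ℂ) : pair p f g = ∑ x with ¬ p ∣ orderOf x, f x * conj (g x) := by
  rw [pair_def, Finset.sum_filter]
  refine Finset.sum_congr rfl fun x _ => ?_
  by_cases h : p ∣ orderOf x
  · rw [regPart_of_dvd h, if_neg (not_not.2 h), zero_mul]
  · rw [regPart_of_not_dvd h, if_pos h, mul_comm]

variable {H : Subgroup G} [Fintype H]

/-- The product of `c ↦ ψ (u c)` and `η` over the `p`-regular elements of `H`. -/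
noncomputable def wt (p : ℕ) (u : G) (ψ : G → ℂ) (η : H → ℂ) : ℂ :=
  rg p (fun c : H => ψ (u * (c : G))) η

theorem wt_def (p : ℕ) (u : G) (ψ : G → ℂ) (η : H → ℂ) :
    wt p u ψ η = rg p (fun c : H => ψ (u * (c : G))) η := rfl

/-- The contribution of the subsection `(u, b)` to the inner product of `χ` and `ψ`. -/
noncomputable def contr (p : ℕ) (u : G) (b : Set (IrrCharacter H)) [Fintype b]
    (χ ψ : G → ℂ) : ℂ :=
  ∑ η : b, wt p u χ (η : H → ℂ) * conj (wt p u ψ (η : H → ℂ))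

theorem contr_def (p : ℕ) (u : G) (b : Set (IrrCharacter H)) [Fintype b] (χ ψ : G → ℂ) :
    contr p u b χ ψ = ∑ η : b, wt p u χ (η : H → ℂ) * conj (wt p u ψ (η : H → ℂ)) := rfl

theorem conj_contr (p : ℕ) (u : G) (b : Set (IrrCharacter H)) [Fintype b] (χ ψ : G → ℂ) :
    conj (contr p u b χ ψ) = contr p u b ψ χ := by
  rw [contr_def, contr_def, map_sum]
  refine Finset.sum_congr rfl fun η _ => ?_
  rw [map_mul, Complex.conj_conj, mul_comm]

/-- The contribution to the norm is a sum of squares. -/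
theorem contr_self_eq (p : ℕ) (u : G) (b : Set (IrrCharacter H)) [Fintype b] (χ : G → ℂ) :
    contr p u b χ χ = ((∑ η : b, ‖wt p u χ (η : H → ℂ)‖ ^ 2 : ℝ) : ℂ) := by
  rw [contr_def]
  push_cast
  refine Finset.sum_congr rfl fun η _ => ?_
  rw [Complex.mul_conj, Complex.normSq_eq_norm_sq]
  push_cast
  ring

end defs

section columns

variable {G : Type*} [Group G] [Finite G] {p : ℕ} [Fact p.Prime] {M : Ideal AlgInt}

theorem isClassFunction_mul {u : G} {H : Subgroup G}
    (hH : H = Subgroup.centralizer ({u} : Set G)) {ψ : G → ℂ} (hψ : IsClassFunction G ψ) :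
    IsClassFunction H (fun c : H => ψ (u * (c : G))) := by
  intro g h
  have h1 : u * ((h * g * h⁻¹ : H) : G) = (h : G) * (u * (g : G)) * (h : G)⁻¹ := by
    have h2 : (h : G) * u = u * (h : G) :=
      Subgroup.mem_centralizer_singleton_iff.1 (hH ▸ h.2)
    push_cast
    rw [← mul_assoc, ← mul_assoc, ← mul_assoc, h2]
  change ψ (u * ((h * g * h⁻¹ : H) : G)) = ψ (u * (g : G))
  rw [h1, hψ]

/-- The row `wt p u ψ` of a class function is fixed by the matrix `rg`. -/
theorem sum_wt_mul_rg (hM : IsPModular p M) {u : G} {H : Subgroup G} [Fintype H]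
    (hH : H = Subgroup.centralizer ({u} : Set G)) {b : Set (IrrCharacter H)} [Fintype b]
    (hb : IsPBlock M b) {ψ : G → ℂ} (hψ : IsClassFunction G ψ) {η : IrrCharacter H}
    (hη : η ∈ b) :
    ∑ ζ : b, wt p u ψ (ζ : H → ℂ) * rg p (ζ : H → ℂ) (η : H → ℂ) = wt p u ψ (η : H → ℂ) := by
  have := Core.finite_irr (G := H)
  have := Fintype.ofFinite (IrrCharacter H)
  conv_rhs => rw [wt_def, rg_eq_sum p (isClassFunction_mul hH hψ) (Core.isIrr_isClassFunction η.2)]
  rw [sum_eq_sum_coe b]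
  · exact Finset.sum_congr rfl fun ζ _ => by rw [conj_rg, wt_def]
  · intro ζ hζ
    rw [conj_rg, rg_eq_zero' hM hb hζ hη, mul_zero]

/-- Column orthogonality for the subsection `(u, b)`. -/
theorem sum_wt_mul_conj_wt (hM : IsPModular p M) {u : G} (hu : ∃ k : ℕ, orderOf u = p ^ k)
    {H : Subgroup G} [Fintype H] (hH : H = Subgroup.centralizer ({u} : Set G))
    {b : Set (IrrCharacter H)} {B : Set (IrrCharacter G)} [Fintype B]
    (hind : IsInducedBlock M H b B) {η η' : IrrCharacter H} (hη : η ∈ b) (hη' : η' ∈ b) :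
    ∑ ψ : B, wt p u (ψ : G → ℂ) (η : H → ℂ) * conj (wt p u (ψ : G → ℂ) (η' : H → ℂ)) =
      rg p (η' : H → ℂ) (η : H → ℂ) := by
  classical
  have := isPrime_of_isPModular hM
  have := Fintype.ofFinite G
  have := Core.finite_irr (G := H)
  have := Fintype.ofFinite (IrrCharacter H)
  have := Core.finite_irr (G := G)
  have := Fintype.ofFinite (IrrCharacter G)
  have : Fintype b := Fintype.ofFinite b
  let A : Set (IrrCharacter H) := {ξ | IsInducedBlock M H (blockOf M (ξ : H → ℂ)) B}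
  have hA : ∀ ξ : IrrCharacter H, ξ ∈ A ↔ IsInducedBlock M H (blockOf M (ξ : H → ℂ)) B :=
    fun _ => Iff.rfl
  have : Fintype A := Fintype.ofFinite A
  have hbA : b ⊆ A := fun ξ hξ => by
    rw [hA, ← isPBlock_eq_blockOf hind.1 hξ]
    exact hind
  have hsec : ∀ y y' : H, ¬ p ∣ orderOf y → ¬ p ∣ orderOf y' →
      ∑ ψ : B, (ψ : G → ℂ) (u * (y : G)) * conj ((ψ : G → ℂ) (u * (y' : G))) =
        ∑ ξ : A, (ξ : H → ℂ) y * conj ((ξ : H → ℂ) y') := by
    intro y y' hy hy'
    have h := Blocks.CentralizerSum.sum_section hM u hu hH hind.2.1 hA y y' hy hy'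
    rw [finsum_mem_eq_toFinset_sum, finsum_mem_eq_toFinset_sum] at h
    rw [← Finset.sum_subtype B.toFinset (p := fun x => x ∈ B) (fun x => Set.mem_toFinset)
      (fun ψ : IrrCharacter G => (ψ : G → ℂ) (u * (y : G)) * conj ((ψ : G → ℂ) (u * (y' : G)))),
      ← Finset.sum_subtype A.toFinset (p := fun x => x ∈ A) (fun x => Set.mem_toFinset)
      (fun ξ : IrrCharacter H => (ξ : H → ℂ) y * conj ((ξ : H → ℂ) y'))]
    exact h
  have hwt : ∀ (ψ : G → ℂ) (η : H → ℂ), wt p u ψ η = (Nat.card H : ℂ)⁻¹ *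
      ∑ y : H with ¬ p ∣ orderOf y, ψ (u * (y : G)) * conj (η y) := by
    intro ψ η
    rw [wt_def, rg_def, pair_eq_sum_filter]
  have hrg : ∀ (ξ η : H → ℂ), rg p ξ η = (Nat.card H : ℂ)⁻¹ *
      ∑ y : H with ¬ p ∣ orderOf y, ξ y * conj (η y) := by
    intro ξ η
    rw [rg_def, pair_eq_sum_filter]
  -- general double sum formula
  have key : ∀ {ι : Type _} [Fintype ι] (a : ι → H → ℂ),
      ∑ i, ((Nat.card H : ℂ)⁻¹ * ∑ y with ¬ p ∣ orderOf y, a i y * conj ((η : H → ℂ) y)) *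
        conj ((Nat.card H : ℂ)⁻¹ * ∑ y with ¬ p ∣ orderOf y, a i y * conj ((η' : H → ℂ) y)) =
      (Nat.card H : ℂ)⁻¹ * (Nat.card H : ℂ)⁻¹ * ∑ y : H with ¬ p ∣ orderOf y,
        ∑ y' : H with ¬ p ∣ orderOf y', conj ((η : H → ℂ) y) * (η' : H → ℂ) y' *
          ∑ i, a i y * conj (a i y') := by
    intro ι _ a
    simp only [map_mul, map_inv₀, Complex.conj_natCast, map_sum, Complex.conj_conj]
    have e1 : ∀ i : ι, ((Nat.card H : ℂ)⁻¹ * ∑ y with ¬ p ∣ orderOf y, a i y *
        conj ((η : H → ℂ) y)) * ((Nat.card H : ℂ)⁻¹ * ∑ y' with ¬ p ∣ orderOf y',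
          conj (a i y') * (η' : H → ℂ) y') =
        (Nat.card H : ℂ)⁻¹ * (Nat.card H : ℂ)⁻¹ * ∑ y : H with ¬ p ∣ orderOf y,
        ∑ y' : H with ¬ p ∣ orderOf y', conj ((η : H → ℂ) y) * (η' : H → ℂ) y' *
          (a i y * conj (a i y')) := by
      intro i
      rw [mul_mul_mul_comm, Finset.sum_mul_sum]
      congr 1
      exact Finset.sum_congr rfl fun y _ => Finset.sum_congr rfl fun y' _ => by ring
    rw [Finset.sum_congr rfl fun i _ => e1 i, ← Finset.mul_sum]
    congr 1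
    rw [Finset.sum_comm]
    refine Finset.sum_congr rfl fun y _ => ?_
    rw [Finset.sum_comm]
    refine Finset.sum_congr rfl fun y' _ => ?_
    rw [Finset.mul_sum]
  have hL := key (fun (ψ : B) (y : H) => (ψ : G → ℂ) (u * (y : G)))
  have hR := key (fun (ξ : A) (y : H) => (ξ : H → ℂ) y)
  simp only [hwt]
  rw [hL]
  have e2 : ∑ y : H with ¬ p ∣ orderOf y, ∑ y' : H with ¬ p ∣ orderOf y',
      conj ((η : H → ℂ) y) * (η' : H → ℂ) y' *
        ∑ ψ : B, (ψ : G → ℂ) (u * (y : G)) * conj ((ψ : G → ℂ) (u * (y' : G))) =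
      ∑ y : H with ¬ p ∣ orderOf y, ∑ y' : H with ¬ p ∣ orderOf y',
      conj ((η : H → ℂ) y) * (η' : H → ℂ) y' *
        ∑ ξ : A, (ξ : H → ℂ) y * conj ((ξ : H → ℂ) y') := by
    refine Finset.sum_congr rfl fun y hy => Finset.sum_congr rfl fun y' hy' => ?_
    rw [hsec y y' (Finset.mem_filter.1 hy).2 (Finset.mem_filter.1 hy').2]
  rw [e2, ← hR]
  have e3 : ∑ ξ : A, (Nat.card H : ℂ)⁻¹ * (∑ y with ¬ p ∣ orderOf y, (ξ : H → ℂ) y *
        conj ((η : H → ℂ) y)) *
      conj ((Nat.card H : ℂ)⁻¹ * ∑ y with ¬ p ∣ orderOf y, (ξ : H → ℂ) y *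
        conj ((η' : H → ℂ) y)) =
      ∑ ξ : b, rg p (η' : H → ℂ) (ξ : H → ℂ) * rg p (ξ : H → ℂ) (η : H → ℂ) := by
    simp only [← hrg]
    rw [← sum_eq_sum_coe b (fun ξ : IrrCharacter H =>
        rg p (η' : H → ℂ) (ξ : H → ℂ) * rg p (ξ : H → ℂ) (η : H → ℂ)) (fun ξ hξ => by
          rw [rg_eq_zero hM hind.1 hη' hξ, zero_mul]),
      ← sum_eq_sum_coe A (fun ξ : IrrCharacter H =>
        rg p (ξ : H → ℂ) (η : H → ℂ) * conj (rg p (ξ : H → ℂ) (η' : H → ℂ))) (fun ξ hξ => by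
          rw [rg_eq_zero' hM hind.1 (fun h => hξ (hbA h)) hη, zero_mul])]
    refine Finset.sum_congr rfl fun ξ _ => ?_
    rw [conj_rg, mul_comm]
  rw [e3, sum_rg_mul_rg hM hind.1 hη']

/-- The contributions form an idempotent matrix. -/
theorem sum_contr_mul_contr (hM : IsPModular p M) {u : G} (hu : ∃ k : ℕ, orderOf u = p ^ k)
    {H : Subgroup G} [Fintype H] (hH : H = Subgroup.centralizer ({u} : Set G))
    {b : Set (IrrCharacter H)} [Fintype b] {B : Set (IrrCharacter G)} [Fintype B]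
    (hind : IsInducedBlock M H b B) {χ χ' : G → ℂ} (hχ : IsClassFunction G χ) :
    ∑ ψ : B, contr p u b χ (ψ : G → ℂ) * contr p u b (ψ : G → ℂ) χ' = contr p u b χ χ' := by
  have h1 : ∀ ψ : B, contr p u b χ (ψ : G → ℂ) * contr p u b (ψ : G → ℂ) χ' =
      ∑ η : b, ∑ η' : b, wt p u χ (η : H → ℂ) * conj (wt p u χ' (η' : H → ℂ)) *
        (wt p u (ψ : G → ℂ) (η' : H → ℂ) * conj (wt p u (ψ : G → ℂ) (η : H → ℂ))) := by
    intro ψ
    rw [contr_def, contr_def, Finset.sum_mul_sum]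
    exact Finset.sum_congr rfl fun η _ => Finset.sum_congr rfl fun η' _ => by ring
  rw [Finset.sum_congr rfl fun ψ _ => h1 ψ, Finset.sum_comm]
  have h2 : ∀ η : b, ∑ ψ : B, ∑ η' : b, wt p u χ (η : H → ℂ) * conj (wt p u χ' (η' : H → ℂ)) *
        (wt p u (ψ : G → ℂ) (η' : H → ℂ) * conj (wt p u (ψ : G → ℂ) (η : H → ℂ))) =
      ∑ η' : b, wt p u χ (η : H → ℂ) * conj (wt p u χ' (η' : H → ℂ)) *
        rg p (η : H → ℂ) (η' : H → ℂ) := by
    intro η
    rw [Finset.sum_comm]
    refine Finset.sum_congr rfl fun η' _ => ?_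
    rw [← Finset.mul_sum, sum_wt_mul_conj_wt hM hu hH hind η'.2 η.2]
  rw [Finset.sum_congr rfl fun η _ => h2 η, Finset.sum_comm, contr_def]
  refine Finset.sum_congr rfl fun η' _ => ?_
  rw [← sum_wt_mul_rg hM hH hind.1 hχ η'.2, Finset.sum_mul]
  exact Finset.sum_congr rfl fun η _ => by ring

/-- The trace of the contribution matrix. -/
theorem sum_contr_self (hM : IsPModular p M) {u : G} (hu : ∃ k : ℕ, orderOf u = p ^ k)
    {H : Subgroup G} [Fintype H] (hH : H = Subgroup.centralizer ({u} : Set G))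
    {b : Set (IrrCharacter H)} [Fintype b] {B : Set (IrrCharacter G)} [Fintype B]
    (hind : IsInducedBlock M H b B) :
    ∑ ψ : B, contr p u b (ψ : G → ℂ) (ψ : G → ℂ) = blockRank p b := by
  simp only [contr_def]
  rw [Finset.sum_comm, ← sum_rg_self hM hind.1]
  exact Finset.sum_congr rfl fun η _ => sum_wt_mul_conj_wt hM hu hH hind η.2 η.2

end columns

section scalars

variable {G : Type*} [Group G] [Finite G] {p : ℕ} {M : Ideal AlgInt}

/-- The scalar by which `u` acts in an irreducible character of `H ≤ C_G(u)`, `u ∈ H`. -/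
theorem exists_scalar {u : G} {H : Subgroup G} (hH : H = Subgroup.centralizer ({u} : Set G))
    {q : ℕ} (huq : u ^ q = 1) (ξ : IrrCharacter H) :
    ∃ e : ℂ, e ^ q = 1 ∧ ∀ (k : ℕ) (c : H) (c' : H), (c' : G) = u ^ k * (c : G) →
      (ξ : H → ℂ) c' = e ^ k * (ξ : H → ℂ) c := by
  have huH : u ∈ H := by
    rw [hH, Subgroup.mem_centralizer_singleton_iff]
  let uH : H := ⟨u, huH⟩
  have hcen : uH ∈ Subgroup.center H := by
    rw [Subgroup.mem_center_iff]
    intro g
    apply Subtype.ext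
    have h0 : (g : G) ∈ Subgroup.centralizer ({u} : Set G) := by
      rw [← hH]; exact g.2
    have := Subgroup.mem_centralizer_singleton_iff.1 h0
    simpa [uH] using this
  obtain ⟨e, he, h⟩ := Blocks.CentralizerSum.exists_central_scalar ξ.2 hcen
  have h2 : ∀ (k : ℕ) (c : H), (ξ : H → ℂ) (uH ^ k * c) = e ^ k * (ξ : H → ℂ) c := by
    intro k
    induction k with
    | zero => intro c; simp
    | succ k ih =>
      intro c
      rw [pow_succ', mul_assoc, h, ih, pow_succ']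
      ring
  refine ⟨e, ?_, ?_⟩
  · have h3 := h2 q 1
    have h4 : uH ^ q = 1 := Subtype.ext (by simpa [uH] using huq)
    rw [h4, mul_one] at h3
    have h5 := apply_one_ne_zero ξ
    field_simp at h3
    exact h3.symm
  · intro k c c' hc
    have h3 : c' = uH ^ k * c := Subtype.ext (by rw [hc]; simp [uH])
    rw [← h2 k c, h3]

/-- Multiplicities and scalars: `ψ (u ^ k * c) = ∑ n ξ * e ξ ^ k * ξ c`. -/
theorem exists_expansion {u : G} {H : Subgroup G}
    (hH : H = Subgroup.centralizer ({u} : Set G)) {q : ℕ} (huq : u ^ q = 1)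
    [Fintype (IrrCharacter H)] :
    ∃ (n : IrrCharacter G → IrrCharacter H → ℕ) (e : IrrCharacter H → ℂ),
      (∀ ξ, e ξ ^ q = 1) ∧ ∀ (ψ : IrrCharacter G) (k : ℕ) (c : H),
        (ψ : G → ℂ) (u ^ k * (c : G)) = ∑ ξ : IrrCharacter H, (n ψ ξ : ℂ) * e ξ ^ k *
          (ξ : H → ℂ) c := by
  have h1 : ∀ ψ : IrrCharacter G, ∃ m : IrrCharacter H → ℕ,
      (fun c : H => (ψ : G → ℂ) c) = ∑ ξ : IrrCharacter H, m ξ • (ξ : H → ℂ) := fun ψ =>
    Core.isCharacter_iff.1 (Core.isCharacter_comp H.subtype (Core.isIrr_isCharacter ψ.2))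
  choose n hn using h1
  choose e he using fun ξ : IrrCharacter H => exists_scalar hH huq ξ
  refine ⟨n, e, fun ξ => (he ξ).1, fun ψ k c => ?_⟩
  have huH : u ∈ H := by
    rw [hH, Subgroup.mem_centralizer_singleton_iff]
  have h2 := congrFun (hn ψ) (⟨u, huH⟩ ^ k * c)
  simp only [Finset.sum_apply] at h2
  have h3 : (((⟨u, huH⟩ : H) ^ k * c : H) : G) = u ^ k * (c : G) := by simp
  rw [h3] at h2
  rw [h2]
  refine Finset.sum_congr rfl fun ξ _ => ?_
  rw [Pi.smul_apply, (he ξ).2 k c _ h3, nsmul_eq_mul, mul_assoc]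

theorem memLocalIdeal_root_sub_one (hM : IsPModular p M) {e : ℂ} {j : ℕ} (he : e ^ p ^ j = 1) :
    MemLocalIdeal M (e - 1) := by
  have := isPrime_of_isPModular hM
  have hp := hM.1
  have heint : IsIntegral ℤ e := by
    refine IsIntegral.of_pow (pow_pos hp.pos j) ?_
    rw [he]; exact isIntegral_one
  have h1 : IsIntegral ℤ (e - 1) := heint.sub isIntegral_one
  -- `(e - 1) ^ (p ^ j) ≡ e ^ (p ^ j) - 1 = 0`
  let x : AlgInt := ⟨e, heint⟩
  have hx : x - 1 ∈ M := by
    have : CharP (AlgInt ⧸ M) p := by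
      have h2 := hM.2.2
      refine ⟨fun n => ?_⟩
      rw [← map_natCast (Ideal.Quotient.mk M), Ideal.Quotient.eq_zero_iff_mem]
      exact natCast_mem_iff hM n
    have : ExpChar (AlgInt ⧸ M) p := ExpChar.prime hp
    rw [← Ideal.Quotient.eq_zero_iff_mem, map_sub, map_one, sub_eq_zero]
    have h3 : (Ideal.Quotient.mk M x) ^ p ^ j = 1 := by
      rw [← map_pow]
      have : x ^ p ^ j = 1 := Subtype.ext (by simpa [x] using he)
      rw [this, map_one]
    have h4 : (Ideal.Quotient.mk M x - 1) ^ p ^ j = 0 := by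
      rw [sub_pow_expChar_pow, h3, one_pow, sub_self]
    have h5 := pow_eq_zero_iff (pow_ne_zero j hp.ne_zero) |>.1 h4
    exact sub_eq_zero.1 h5
  have h6 := memLocalIdeal_of_mem hx
  simpa [x] using h6

end scalars

end Cfsg.Agent.H613.Contrib
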